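import Groth.Agent.L22.GV.Main

/-!
Cohomology of a Noetherian space agrees with that of its soberification.
-/

set_option autoImplicit false
universe u

open CategoryTheory CategoryTheory.Limits CategoryTheory.Abelian Opposite TopologicalSpace

noncomputable section

namespace Groth.L22.GV

variable (X : TopCat.{u})

/-- The soberification: irreducible closed subsets. -/
def Sob : Type u := IrreducibleCloseds X

variable {X}

/-- The irreducible closed subsets meeting `U`. -/
def star (U : Opens X) : Set (Sob X) :=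
  {Z | ((show IrreducibleCloseds X from Z).carrier ∩ (U : Set X)).Nonempty}

theorem star_inf (U V : Opens X) : star (U ⊓ V) = star U ∩ star V := by
  ext Z
  exact ⟨fun ⟨x, hx, hU, hV⟩ => ⟨⟨x, hx, hU⟩, ⟨x, hx, hV⟩⟩,
    fun ⟨h1, h2⟩ => (show IrreducibleCloseds X from Z).isIrreducible.2 _ _ U.2 V.2 h1 h2⟩

theorem star_iSup {ι : Type*} (U : ι → Opens X) : star (iSup U) = ⋃ i, star (U i) := by
  ext Z
  refine ⟨fun ⟨x, hx, hU⟩ => ?_, fun h => ?_⟩
  · obtain ⟨i, hi⟩ := Opens.mem_iSup.1 hU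
    exact Set.mem_iUnion.2 ⟨i, x, hx, hi⟩
  · obtain ⟨i, x, hx, hi⟩ := Set.mem_iUnion.1 h
    exact ⟨x, hx, Opens.mem_iSup.2 ⟨i, hi⟩⟩

theorem star_top : star (⊤ : Opens X) = Set.univ :=
  Set.eq_univ_of_forall fun Z => (show IrreducibleCloseds X from Z).isIrreducible.1.mono fun _ hx => ⟨hx, trivial⟩

instance : TopologicalSpace (Sob X) where
  IsOpen s := ∃ U : Opens X, s = star U
  isOpen_univ := ⟨⊤, star_top.symm⟩
  isOpen_inter := fun s t ⟨U, hU⟩ ⟨V, hV⟩ => ⟨U ⊓ V, by rw [star_inf, hU, hV]⟩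
  isOpen_sUnion := fun S hS => by
    choose U hU using hS
    refine ⟨⨆ s : S, U s.1 s.2, ?_⟩
    rw [star_iSup]
    ext Z
    simp only [Set.mem_sUnion, Set.mem_iUnion, Subtype.exists]
    exact ⟨fun ⟨s, hs, hZ⟩ => ⟨s, hs, hU s hs ▸ hZ⟩, fun ⟨s, hs, hZ⟩ => ⟨s, hs, (hU s hs).symm ▸ hZ⟩⟩

variable (X) in
/-- The soberification as a space. -/
abbrev sob : TopCat.{u} := TopCat.of (Sob X)

/-- The point of the soberification given by a point. -/
def toSobFun (x : X) : Sob X :=
  (⟨closure {x}, isIrreducible_singleton.closure, isClosed_closure⟩ : IrreducibleCloseds X)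

theorem toSobFun_mem_star {x : X} {U : Opens X} : toSobFun x ∈ star U ↔ x ∈ U := by
  refine ⟨fun ⟨y, hy, hyU⟩ => ?_, fun h => ⟨x, subset_closure rfl, h⟩⟩
  exact (specializes_iff_mem_closure.2 (show y ∈ closure ({x} : Set X) from hy)).mem_open U.2 hyU

variable (X) in
/-- The canonical map to the soberification. -/
def toSob : X ⟶ sob X :=
  TopCat.ofHom ⟨toSobFun, continuous_def.2 fun s ⟨U, hU⟩ => by
    rw [show toSobFun ⁻¹' s = (U : Set X) by rw [hU]; ext x; exact toSobFun_mem_star]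
    exact U.2⟩

theorem map_star (U : Opens X) (h : IsOpen (star U)) :
    (Opens.map (toSob X)).obj ⟨star U, h⟩ = U := by
  ext x
  exact toSobFun_mem_star

theorem locAcyclic_toSob (F : CohTop.Ab X) :
    Groth.L10.SiteCoh.LocAcyclic (Opens.grothendieckTopology (sob X)) (Opens.map (toSob X)) F := fun V n x => by
  have key : ∀ y ∈ V, ∃ (W : Opens (sob X)) (h : W ≤ V), y ∈ W ∧
      (Ext.mk₀ (Groth.L10.SiteCoh.fsMap (Opens.grothendieckTopology X) ((Opens.map (toSob X)).map (homOfLE h)))).comp x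
        (zero_add (n + 1)) = 0 := by
    intro y hy
    obtain ⟨U, hU⟩ := V.2
    have hy' : y ∈ star U := hU ▸ hy
    obtain ⟨p, hpZ, hpU⟩ := hy'
    have hp : p ∈ (Opens.map (toSob X)).obj V := by
      show toSobFun p ∈ V.carrier
      rw [hU]
      exact toSobFun_mem_star.2 hpU
    obtain ⟨O, hO, hpO, h0⟩ := Groth.L10.TopCoh.exists_cover_res_eq_zero F _ n x p hp
    let W : Opens (sob X) := ⟨star O, O, rfl⟩
    refine ⟨W ⊓ V, inf_le_right, ⟨⟨p, hpZ, hpO⟩, hy⟩, ?_⟩
    have hle : (Opens.map (toSob X)).obj (W ⊓ V) ≤ O := fun q hq => toSobFun_mem_star.1 hq.1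
    rw [show Groth.L10.SiteCoh.fsMap (Opens.grothendieckTopology X) ((Opens.map (toSob X)).map (homOfLE inf_le_right)) =
        Groth.L10.SiteCoh.fsMap (Opens.grothendieckTopology X) (homOfLE hle) ≫
          Groth.L10.SiteCoh.fsMap _ (homOfLE hO) from by
      rw [← Functor.map_comp, ← Functor.whiskerRight_comp, ← Functor.map_comp]
      exact congrArg (Groth.L10.SiteCoh.fsMap _) (Subsingleton.elim _ _), ← Ext.mk₀_comp_mk₀_assoc, h0, Ext.comp_zero]
  exact ⟨⟨{ arrows := fun W g =>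
              (Ext.mk₀ (Groth.L10.SiteCoh.fsMap (Opens.grothendieckTopology X) ((Opens.map (toSob X)).map g))).comp x
                (zero_add (n + 1)) = 0
            downward_closed := fun {W W'} g hg g' => by
              simp only [Groth.L10.SiteCoh.fsMap, Groth.L10.SiteCoh.fpMap, Functor.map_comp, Functor.whiskerRight_comp]
              rw [← Ext.mk₀_comp_mk₀_assoc, hg, Ext.comp_zero] },
    fun y hy => by
      obtain ⟨W, h, hyW, h0⟩ := key y hy
      exact ⟨W, homOfLE h, h0, hyW⟩⟩, fun a => a.hf⟩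

instance noetherianSpace_sob [NoetherianSpace X] : NoetherianSpace (Sob X) := by
  rw [noetherianSpace_iff_opens]
  intro V
  rw [isCompact_iff_finite_subcover]
  intro ι W hW hcov
  choose U hU using hW
  obtain ⟨O, hO⟩ := V.2
  obtain ⟨t, ht⟩ := (NoetherianSpace.isCompact (O : Set X)).elim_finite_subcover (fun i => (U i : Set X))
    (fun i => (U i).2) fun x hx => by
      have h1 : toSobFun x ∈ (V : Set (Sob X)) := by
        show toSobFun x ∈ V.carrier
        rw [hO]
        exact toSobFun_mem_star.2 hx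
      obtain ⟨i, hi⟩ := Set.mem_iUnion.1 (hcov h1)
      rw [hU i] at hi
      exact Set.mem_iUnion.2 ⟨i, toSobFun_mem_star.1 hi⟩
  refine ⟨t, fun Z hZ => ?_⟩
  have hZ' : Z ∈ star O := hO ▸ hZ
  obtain ⟨x, hxZ, hxO⟩ := hZ'
  obtain ⟨i, hit, hxi⟩ := Set.mem_iUnion₂.1 (ht hxO)
  refine Set.mem_iUnion₂.2 ⟨i, hit, ?_⟩
  rw [hU i]
  exact ⟨x, hxZ, hxi⟩

theorem mem_closure_singleton {A Z : Sob X} :
    Z ∈ closure ({A} : Set (Sob X)) ↔
      (show IrreducibleCloseds X from Z).carrier ⊆ (show IrreducibleCloseds X from A).carrier := by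
  rw [mem_closure_iff]
  refine ⟨fun h => ?_, fun h s ⟨U, hU⟩ hZ => ?_⟩
  · intro x hx
    by_contra hxA
    let U : Opens X := ⟨(show IrreducibleCloseds X from A).carrierᶜ,
      (show IrreducibleCloseds X from A).isClosed.isOpen_compl⟩
    obtain ⟨B, hB, hBA⟩ := h (star U) ⟨U, rfl⟩ ⟨x, hx, hxA⟩
    rw [Set.mem_singleton_iff] at hBA
    subst hBA
    obtain ⟨y, hy, hy'⟩ := hB
    exact hy' hy
  · subst hU
    obtain ⟨x, hx, hxU⟩ := hZ
    exact ⟨A, ⟨x, h hx, hxU⟩, rfl⟩

instance : T0Space (Sob X) := ⟨fun {A B} h => by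
  have h1 := mem_closure_singleton.1 (specializes_iff_mem_closure.1 h.specializes)
  have h2 := mem_closure_singleton.1 (specializes_iff_mem_closure.1 h.symm.specializes)
  show (show IrreducibleCloseds X from A) = (show IrreducibleCloseds X from B)
  exact IrreducibleCloseds.ext (Set.Subset.antisymm h2 h1)⟩

instance : QuasiSober (Sob X) where
  sober {C} hC hCc := by
    obtain ⟨U, hU⟩ := hCc.isOpen_compl
    let A : Set X := (U : Set X)ᶜ
    have hmem : ∀ Z : Sob X, Z ∈ C ↔ (show IrreducibleCloseds X from Z).carrier ⊆ A := fun Z => by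
      refine ⟨fun hZ x hx hxU => ?_, fun h => ?_⟩
      · have : Z ∈ star U := ⟨x, hx, hxU⟩
        rw [← hU] at this
        exact this hZ
      · by_contra hZ
        have h' : Z ∈ star U := hU ▸ hZ
        obtain ⟨x, hx, hxU⟩ := h'
        exact h hx hxU
    have hpt : ∀ x ∈ A, toSobFun x ∈ C := fun x hx =>
      (hmem _).2 (closure_minimal (Set.singleton_subset_iff.2 hx) U.2.isClosed_compl)
    have hA : IsIrreducible A := by
      obtain ⟨Z, hZ⟩ := hC.1
      refine ⟨(show IrreducibleCloseds X from Z).isIrreducible.1.mono ((hmem Z).1 hZ), fun V W hV hW hAV hAW => ?_⟩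
      obtain ⟨p, hp, hpV⟩ := hAV
      obtain ⟨q, hq, hqW⟩ := hAW
      obtain ⟨B, hB, hBV, hBW⟩ := hC.2 (star ⟨V, hV⟩) (star ⟨W, hW⟩) ⟨⟨V, hV⟩, rfl⟩ ⟨⟨W, hW⟩, rfl⟩
        ⟨_, hpt p hp, toSobFun_mem_star.2 hpV⟩ ⟨_, hpt q hq, toSobFun_mem_star.2 hqW⟩
      obtain ⟨x, hx, hxVW⟩ := (show IrreducibleCloseds X from B).isIrreducible.2 V W hV hW hBV hBW
      exact ⟨x, (hmem B).1 hB hx, hxVW⟩
    refine ⟨(⟨A, hA, U.2.isClosed_compl⟩ : IrreducibleCloseds X), ?_⟩
    ext Z
    exact mem_closure_singleton.trans (hmem Z).symm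

theorem dim_sob_le [NoetherianSpace X] : topologicalKrullDim (Sob X) ≤ topologicalKrullDim X := by
  let f : IrreducibleCloseds (Sob X) → IrreducibleCloseds X := fun C =>
    (show IrreducibleCloseds X from C.isIrreducible.genericPoint)
  refine Order.krullDim_le_of_strictMono f fun C D hCD => ?_
  have hg : ∀ E : IrreducibleCloseds (Sob X), IsGenericPoint E.isIrreducible.genericPoint (E : Set (Sob X)) := fun E =>
    E.isIrreducible.isGenericPoint_genericPoint E.isClosed
  refine lt_of_le_of_ne (mem_closure_singleton.1 ?_) fun e => hCD.ne ?_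
  · rw [(hg D).def]
    exact hCD.le (hg C).mem
  · refine IrreducibleCloseds.ext ?_
    rw [← (hg C).def, ← (hg D).def]
    exact congrArg (fun a : IrreducibleCloseds X => closure ({(show Sob X from a)} : Set (Sob X))) e

/-- Grothendieck vanishing. -/
theorem subsingleton_H' [NoetherianSpace X] {d : ℕ} (hd : topologicalKrullDim X ≤ d) (F : CohTop.Ab X) (n : ℕ)
    (hn : d < n) : Subsingleton (CohTop.H F n) := by
  obtain ⟨e⟩ := Groth.L10.TopCoh.nonempty_H_push (toSob X) F (locAcyclic_toSob F) n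
  haveI : NoetherianSpace (sob X) := noetherianSpace_sob
  haveI : QuasiSober (sob X) := inferInstanceAs (QuasiSober (Sob X))
  haveI : T0Space (sob X) := inferInstanceAs (T0Space (Sob X))
  haveI := subsingleton_H (X := sob X) (le_trans dim_sob_le hd) ((CohTop.push (toSob X)).obj F) n hn
  exact e.toEquiv.subsingleton

end Groth.L22.GV
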