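import Groth.Agent.L22.GV.Spread
import Groth.Agent.L21.RR.TopVanish
import Groth.Agent.L03.Euler.Dim

/-!
Grothendieck vanishing on Noetherian sober spaces.
-/

set_option autoImplicit false
set_option linter.style.haveILetI false
universe u

open CategoryTheory CategoryTheory.Limits CategoryTheory.Abelian Opposite TopologicalSpace

noncomputable section

namespace Groth.L22.GV

open Groth.L21.RR.Top (stF subsingleton_H_of_shortExact₁ subsingleton_H_of_shortExact₂ isFlasque_of_stalks)
open Groth.L03.Euler (topologicalKrullDim_add_one_le topologicalKrullDim_set_mono zero_le_topologicalKrullDim)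

open scoped Classical

variable {X : TopCat.{u}}

/-- The dimension of the closure of a point. -/
def cdim (x : X) : WithBot ℕ∞ := topologicalKrullDim (closure ({x} : Set X))

theorem cdim_nonneg (x : X) : 0 ≤ cdim x := zero_le_topologicalKrullDim ⟨x, subset_closure rfl⟩

theorem cdim_le {x y : X} (h : y ⤳ x) : cdim x ≤ cdim y :=
  topologicalKrullDim_set_mono (specializes_iff_closure_subset.1 h)

theorem cdim_add_one_le [T0Space X] {x y : X} (h : y ⤳ x) (hne : y ≠ x) : cdim x + 1 ≤ cdim y :=
  topologicalKrullDim_add_one_le isClosed_closure isIrreducible_singleton.closure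
    (specializes_iff_closure_subset.1 h) fun e => hne (inseparable_iff_closure_eq.2 e.symm).eq

theorem eq_of_specializes_cdim_le [T0Space X] {x y : X} {m : ℕ} (h : y ⤳ x) (hx : (m : WithBot ℕ∞) ≤ cdim x)
    (hy : cdim y ≤ m) : y = x := by
  by_contra hne
  have h1 := ((add_le_add_left hx 1).trans (cdim_add_one_le h hne)).trans hy
  change (((m : ℕ∞) + 1 : ℕ∞) : WithBot ℕ∞) ≤ ((m : ℕ∞) : WithBot ℕ∞) at h1
  exact absurd (WithBot.coe_le_coe.1 h1) (not_le.2 ((ENat.lt_add_one_iff (ENat.natCast_ne_top m)).2 le_rfl))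

theorem cdim_eq_zero_iff [T0Space X] [QuasiSober X] {x : X} : cdim x ≤ 0 ↔ IsClosed ({x} : Set X) := by
  constructor
  · intro h
    refine isClosed_of_closure_subset fun z hz => ?_
    exact (eq_of_specializes_cdim_le (m := 0) (specializes_iff_mem_closure.2 hz) (by exact_mod_cast cdim_nonneg z)
      (by exact_mod_cast h)).symm
  · intro h
    rw [cdim, h.closure_eq]
    haveI : DiscreteTopology ({x} : Set X) := Subsingleton.discreteTopology
    exact topologicalKrullDim_zero_of_discreteTopology _

variable (F : CohTop.Ab X) (m : ℕ)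

/-- The points of dimension `m`. -/
def lev (X : TopCat.{u}) (m : ℕ) : Set X := {x | cdim x = (m : WithBot ℕ∞)}

/-- The stalks of `F` vanish above dimension `m`. -/
def DimLE : Prop := ∀ x : X, (m : WithBot ℕ∞) < cdim x → Subsingleton ((stF x).obj F)

variable [NoetherianSpace X] [QuasiSober X] [T0Space X]

theorem finite_germ_ne_zero (hF : DimLE F m) (U : Opens X) (s : F.obj.obj (op U)) :
    {x : X | ∃ h : x ∈ U, x ∈ lev X m ∧ TopCat.Presheaf.germ F.obj U x h s ≠ 0}.Finite := by
  haveI : NoetherianSpace U := (inferInstance : NoetherianSpace X).set _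
  haveI : QuasiSober U := U.isOpenEmbedding'.quasiSober
  obtain ⟨S, hSf, hSc, hSi, hSu⟩ := NoetherianSpace.exists_finite_set_isClosed_irreducible
    (Groth.L21.RR.Top.isClosed_setOf_germ_ne_zero F U s)
  have hg : ∀ t ∈ S, ∃ g : U, IsGenericPoint g t := fun t ht => QuasiSober.sober (hSi t ht) (hSc t ht)
  choose g hg using hg
  refine ((hSf.dependent_image g).image Subtype.val).subset ?_
  rintro x ⟨hxU, hxT, hx⟩
  obtain ⟨t, ht, hxt⟩ : (⟨x, hxU⟩ : U) ∈ ⋃₀ S := by rw [← hSu]; exact hx
  refine ⟨g t ht, ⟨t, ht, rfl⟩, ?_⟩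
  have hgm : g t ht ∈ {p : U | TopCat.Presheaf.germ F.obj U p.1 p.2 s ≠ 0} := by
    have : g t ht ∈ ⋃₀ S := ⟨t, ht, (hg t ht).mem⟩
    rw [← hSu] at this
    exact this
  have hle : cdim (g t ht).1 ≤ (m : WithBot ℕ∞) := by
    by_contra hc
    exact hgm ((hF _ (not_le.1 hc)).elim _ _)
  exact eq_of_specializes_cdim_le (((hg t ht).specializes hxt).map continuous_subtype_val) (ge_of_eq hxT) hle

/-- The family of germs of a section at the points of dimension `m`. -/
def toSpreadFun (U : Opens X) (s : F.obj.obj (op U)) : ∀ x : X, CohTop.stalk F x := fun x =>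
  if h : x ∈ U ∧ x ∈ lev X m then TopCat.Presheaf.germ F.obj U x h.1 s else 0

theorem toSpreadFun_mem (hF : DimLE F m) (U : Opens X) (s : F.obj.obj (op U)) :
    toSpreadFun F m U s ∈ spreadSub (lev X m) (CohTop.stalk F) U := by
  refine ⟨fun x hx => dif_neg hx, (finite_germ_ne_zero F m hF U s).subset fun x hx => ?_⟩
  by_cases h : x ∈ U ∧ x ∈ lev X m
  · refine ⟨h.1, h.2, fun h0 => hx ?_⟩
    rw [toSpreadFun, dif_pos h, h0]
  · exact absurd (dif_neg h) hx

/-- The map to the families of germs. -/
def toSpread (hF : DimLE F m) : F ⟶ spread (lev X m) (CohTop.stalk F) :=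
  ⟨{ app := fun U => AddCommGrpCat.ofHom
      { toFun := fun s => (⟨toSpreadFun F m U.unop s, toSpreadFun_mem F m hF U.unop s⟩ :
          spreadSub (lev X m) (CohTop.stalk F) U.unop)
        map_zero' := by
          refine Subtype.ext (funext fun x => ?_)
          show toSpreadFun F m U.unop 0 x = 0
          unfold toSpreadFun
          split_ifs <;> simp
        map_add' := fun a b => by
          refine Subtype.ext (funext fun x => ?_)
          show toSpreadFun F m U.unop (a + b) x = toSpreadFun F m U.unop a x + toSpreadFun F m U.unop b x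
          unfold toSpreadFun
          split_ifs <;> simp }
     naturality := fun {U V} i => by
      ext s
      refine Subtype.ext (funext fun x => ?_)
      show toSpreadFun F m V.unop (F.obj.map i s) x =
        if x ∈ V.unop then toSpreadFun F m U.unop s x else 0
      unfold toSpreadFun
      by_cases hV : x ∈ V.unop
      · rw [if_pos hV]
        by_cases hT : x ∈ lev X m
        · rw [dif_pos ⟨hV, hT⟩, dif_pos ⟨i.unop.le hV, hT⟩]
          exact TopCat.Presheaf.germ_res_apply F.obj i.unop x hV s
        · rw [dif_neg (fun h => hT h.2), dif_neg (fun h => hT h.2)]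
      · rw [if_neg hV, dif_neg (fun h => hV h.1)] }⟩

theorem toSpread_germ (hF : DimLE F m) {U : Opens X} {x : X} (hx : x ∈ U) (s : F.obj.obj (op U)) :
    (stF x).map (toSpread F m hF) (TopCat.Presheaf.germ F.obj U x hx s) =
      TopCat.Presheaf.germ (spread (lev X m) (CohTop.stalk F)).obj U x hx
        ((⟨toSpreadFun F m U s, toSpreadFun_mem F m hF U s⟩ : spreadSub (lev X m) (CohTop.stalk F) U)) :=
  TopCat.Presheaf.stalkFunctor_map_germ_apply U x hx _ s

/-- Sections of the spread sheaf vanish near a point outside the closures of their support. -/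
theorem germ_spread_eq {x : X} {U : Opens X} (hx : x ∈ U) (g g' : spreadSub (lev X m) (CohTop.stalk F) U)
    (h : ∀ y, y ⤳ x → g.1 y = g'.1 y) :
    TopCat.Presheaf.germ (spread (lev X m) (CohTop.stalk F)).obj U x hx g =
      TopCat.Presheaf.germ (spread (lev X m) (CohTop.stalk F)).obj U x hx g' := by
  let B : Set X := ⋃ y ∈ {y : X | (g - g').1 y ≠ 0}, closure {y}
  have hB : IsClosed B := (g - g').2.2.isClosed_biUnion fun _ _ => isClosed_closure
  let W : Opens X := U ⊓ ⟨Bᶜ, hB.isOpen_compl⟩
  have hxW : x ∈ W := ⟨hx, fun hxB => by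
    obtain ⟨y, hy, hxy⟩ := Set.mem_iUnion₂.1 hxB
    exact hy (sub_eq_zero.2 (h y (specializes_iff_mem_closure.2 hxy)))⟩
  refine TopCat.Presheaf.germ_ext (spread (lev X m) (CohTop.stalk F)).obj W hxW
    (homOfLE inf_le_left) (homOfLE inf_le_left) (Subtype.ext (funext fun y => ?_))
  show (if y ∈ W then g.1 y else 0) = if y ∈ W then g'.1 y else 0
  split_ifs with hy
  · by_contra hne
    exact hy.2 (Set.mem_iUnion₂.2 ⟨y, sub_ne_zero.2 hne, subset_closure rfl⟩)
  · rfl

theorem isZero_stalk_spread {x : X} (hx : (m : WithBot ℕ∞) < cdim x) :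
    IsZero ((stF x).obj (spread (lev X m) (CohTop.stalk F))) := by
  refine @AddCommGrpCat.isZero_of_subsingleton _ ⟨fun p q => ?_⟩
  suffices h : ∀ v : (stF x).obj (spread (lev X m) (CohTop.stalk F)), v = 0 from (h p).trans (h q).symm
  intro v
  obtain ⟨U, hxU, g, rfl⟩ := TopCat.Presheaf.exists_germ_eq (spread (lev X m) (CohTop.stalk F)).obj v
  refine (germ_spread_eq F m hxU g (0 : spreadSub (lev X m) (CohTop.stalk F) U) fun y hy => ?_).trans (map_zero _)
  exact (g : spreadSub (lev X m) (CohTop.stalk F) U).2.1 y fun h => not_le.2 hx ((cdim_le hy).trans h.2.le)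

theorem isIso_stF_toSpread (hF : DimLE F m) {x : X} (hx : x ∈ lev X m) :
    IsIso ((stF x).map (toSpread F m hF)) := by
  refine (ConcreteCategory.isIso_iff_bijective _).2 ⟨(injective_iff_map_eq_zero _).2 fun v hv => ?_, fun w => ?_⟩
  · obtain ⟨U, hxU, s, rfl⟩ := TopCat.Presheaf.exists_germ_eq F.obj v
    rw [toSpread_germ F m hF hxU] at hv
    obtain ⟨W, hxW, i₁, i₂, h⟩ := TopCat.Presheaf.germ_eq _ x hxU hxU _ 0 (hv.trans (map_zero _).symm)
    have h1 := congrArg (fun g : spreadSub (lev X m) (CohTop.stalk F) W => g.1 x) h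
    rw [map_zero] at h1
    change (if x ∈ W then toSpreadFun F m U s x else 0) = 0 at h1
    rw [if_pos hxW, toSpreadFun, dif_pos ⟨hxU, hx⟩] at h1
    exact h1
  · obtain ⟨U, hxU, g, rfl⟩ := TopCat.Presheaf.exists_germ_eq (spread (lev X m) (CohTop.stalk F)).obj w
    obtain ⟨V, hxV, s, hs⟩ := TopCat.Presheaf.exists_germ_eq F.obj
      ((g : spreadSub (lev X m) (CohTop.stalk F) U).1 x)
    let s' : F.obj.obj (op (U ⊓ V)) := F.obj.map (homOfLE inf_le_right).op s
    let g' : spreadSub (lev X m) (CohTop.stalk F) (U ⊓ V) :=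
      spreadRes (lev X m) (CohTop.stalk F) U (U ⊓ V) g
    have hxW : x ∈ U ⊓ V := ⟨hxU, hxV⟩
    refine ⟨TopCat.Presheaf.germ F.obj (U ⊓ V) x hxW s', ?_⟩
    have e : TopCat.Presheaf.germ (spread (lev X m) (CohTop.stalk F)).obj (U ⊓ V) x hxW g' =
        TopCat.Presheaf.germ (spread (lev X m) (CohTop.stalk F)).obj U x hxU g :=
      TopCat.Presheaf.germ_res_apply (spread (lev X m) (CohTop.stalk F)).obj
        (homOfLE inf_le_left : U ⊓ V ⟶ U) x hxW g
    rw [toSpread_germ F m hF hxW, ← e]
    refine germ_spread_eq F m hxW _ g' fun y hy => ?_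
    show toSpreadFun F m (U ⊓ V) s' y = g'.1 y
    by_cases hyl : y ∈ lev X m
    · obtain rfl : y = x := eq_of_specializes_cdim_le hy (ge_of_eq hx) hyl.le
      rw [toSpreadFun, dif_pos ⟨hxW, hyl⟩, spreadRes_apply_mem (lev X m) (CohTop.stalk F) U (U ⊓ V) g hxW, ← hs]
      exact TopCat.Presheaf.germ_res_apply F.obj (homOfLE inf_le_right : U ⊓ V ⟶ V) y hxW s
    · rw [toSpreadFun, dif_neg fun h => hyl h.2, g'.2.1 y fun h => hyl h.2]

theorem subsingleton_H_of_dimLE : ∀ (m : ℕ) (F : CohTop.Ab X), DimLE F m → ∀ n : ℕ, m < n →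
    Subsingleton (CohTop.H F n) := by
  intro m
  induction m with
  | zero =>
    intro F hF n hn
    obtain ⟨k, rfl⟩ := Nat.exists_eq_add_one.2 hn
    refine Groth.L10.TopCoh.subsingleton_H_of_flasque F (isFlasque_of_stalks F fun x hx => hF x ?_) k
    by_contra hc
    push Not at hc
    exact hx (cdim_eq_zero_iff.1 (by exact_mod_cast hc))
  | succ m ih =>
    intro F hF n hn
    obtain ⟨k, rfl⟩ := Nat.exists_eq_add_one.2 (Nat.lt_of_le_of_lt (Nat.zero_le _) hn)
    let G := spread (lev X (m + 1)) (CohTop.stalk F)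
    let ε : F ⟶ G := toSpread F (m + 1) hF
    have hstalk : ∀ x : X, (m : WithBot ℕ∞) < cdim x → x ∉ lev X (m + 1) →
        ((m + 1 : ℕ) : WithBot ℕ∞) < cdim x := fun x hx hne => by
      refine lt_of_le_of_ne ?_ fun e => hne e.symm
      revert hx
      generalize cdim x = t
      intro hx
      induction t using WithBot.recBotCoe with
      | bot => exact absurd hx (by simp)
      | coe t =>
        change ((((m : ℕ∞)) : WithBot ℕ∞)) < (t : WithBot ℕ∞) at hx
        change (((m + 1 : ℕ) : ℕ∞) : WithBot ℕ∞) ≤ (t : WithBot ℕ∞)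
        rw [WithBot.coe_le_coe, Nat.cast_add, Nat.cast_one]
        exact Order.add_one_le_of_lt (WithBot.coe_lt_coe.1 hx)
    have hK : DimLE (kernel ε) m := fun x hx => by
      refine AddCommGrpCat.subsingleton_of_isZero (?_ : IsZero ((stF x).obj (kernel ε)))
      by_cases hl : x ∈ lev X (m + 1)
      · haveI := isIso_stF_toSpread F (m + 1) hF hl
        have h0 : (stF x).map (kernel.ι ε) = 0 := by
          refine zero_of_comp_mono ((stF x).map ε) ?_
          rw [← Functor.map_comp, kernel.condition, Functor.map_zero]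
        exact IsZero.of_mono_eq_zero _ h0
      · haveI := hF x (hstalk x hx hl)
        exact IsZero.of_mono ((stF x).map (kernel.ι ε)) (AddCommGrpCat.isZero_of_subsingleton _)
    have hC : DimLE (cokernel ε) m := fun x hx => by
      refine AddCommGrpCat.subsingleton_of_isZero (?_ : IsZero ((stF x).obj (cokernel ε)))
      by_cases hl : x ∈ lev X (m + 1)
      · haveI := isIso_stF_toSpread F (m + 1) hF hl
        have h0 : (stF x).map (cokernel.π ε) = 0 := by
          refine zero_of_epi_comp ((stF x).map ε) ?_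
          rw [← Functor.map_comp, cokernel.condition, Functor.map_zero]
        exact IsZero.of_epi_eq_zero _ h0
      · exact IsZero.of_epi ((stF x).map (cokernel.π ε)) (isZero_stalk_spread F (m + 1) (hstalk x hx hl))
    let SI : ShortComplex (CohTop.Ab X) := ShortComplex.mk (Abelian.image.ι ε) (cokernel.π ε) (kernel.condition _)
    have hSI : SI.ShortExact :=
      { exact := ShortComplex.exact_of_f_is_kernel _ (kernelIsKernel (cokernel.π ε)) }
    let SK : ShortComplex (CohTop.Ab X) := ShortComplex.mk (kernel.ι ε) (Abelian.factorThruImage ε)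
      (zero_of_comp_mono (Abelian.image.ι ε) (by rw [Category.assoc, Abelian.image.fac, kernel.condition]))
    have hSK : SK.ShortExact := by
      have hm : SK.Exact := by
        let φ : SK ⟶ ShortComplex.mk (kernel.ι ε) ε (kernel.condition ε) :=
          ShortComplex.homMk (𝟙 _) (𝟙 _) (Abelian.image.ι ε)
            ((Category.id_comp _).trans (Category.comp_id _).symm)
            ((Category.id_comp _).trans (Abelian.image.fac ε).symm)
        haveI : Epi φ.τ₁ := inferInstanceAs (Epi (𝟙 _))
        haveI : IsIso φ.τ₂ := inferInstanceAs (IsIso (𝟙 _))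
        haveI : Mono φ.τ₃ := inferInstanceAs (Mono (Abelian.image.ι ε))
        exact (ShortComplex.exact_iff_of_epi_of_isIso_of_mono φ).2 (ShortComplex.exact_kernel ε)
      exact { exact := hm }
    have hI : Subsingleton (CohTop.H (Abelian.image ε) (k + 1)) :=
      subsingleton_H_of_shortExact₁ hSI k
        (Groth.L10.TopCoh.subsingleton_H_of_flasque G (isFlasque_spread _ _) k)
        (ih _ hC k (by omega))
    exact subsingleton_H_of_shortExact₂ hSK (k + 1) (ih _ hK (k + 1) (by omega)) hI

/-- Grothendieck vanishing on sober Noetherian spaces. -/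
theorem subsingleton_H {d : ℕ} (hd : topologicalKrullDim X ≤ d) (F : CohTop.Ab X) (n : ℕ) (hn : d < n) :
    Subsingleton (CohTop.H F n) :=
  subsingleton_H_of_dimLE d F (fun x hx => absurd
    ((Topology.IsInducing.subtypeVal.topologicalKrullDim_le).trans hd) (not_le.2 hx)) n hn

end Groth.L22.GV
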