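import Groth.Prelude.Def_CohTop
import Mathlib.Topology.Sheaves.Flasque
import Mathlib.Topology.Sheaves.SheafCondition.UniqueGluing
import Mathlib.Topology.Sheaves.Stalks
import Mathlib.Topology.NoetherianSpace
import Mathlib.Algebra.Category.Grp.Limits

/-!
The flasque sheaf of finitely supported families of values at a set of points of a Noetherian space.
-/

set_option autoImplicit false
universe u

open CategoryTheory CategoryTheory.Limits Opposite TopologicalSpace

noncomputable section

namespace Groth.L22.GV

open scoped Classical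

variable {X : TopCat.{u}} (T : Set X) (A : X → AddCommGrpCat.{u})

/-- Finitely supported families with support in `U ∩ T`. -/
def spreadSub (U : Opens X) : AddSubgroup (∀ x : X, A x) where
  carrier := {g | (∀ x, ¬ (x ∈ U ∧ x ∈ T) → g x = 0) ∧ {x | g x ≠ 0}.Finite}
  zero_mem' := ⟨fun _ _ => rfl, by simp⟩
  add_mem' := fun {g g'} hg hg' => ⟨fun x hx => by simp [hg.1 x hx, hg'.1 x hx],
    (hg.2.union hg'.2).subset fun x hx => by
      by_contra hc
      simp only [Set.mem_union, Set.mem_setOf_eq, not_or, not_not] at hc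
      exact hx (by simp [hc.1, hc.2])⟩
  neg_mem' := fun {g} hg => ⟨fun x hx => by simp [hg.1 x hx], by simpa using hg.2⟩

/-- Restriction of families. -/
def spreadRes (U V : Opens X) : spreadSub T A U →+ spreadSub T A V where
  toFun g := ⟨fun x => if x ∈ V then g.1 x else 0, fun x hx => by
      show (if x ∈ V then g.1 x else 0) = 0
      split_ifs with h
      · by_cases hT : x ∈ T
        · exact absurd ⟨h, hT⟩ hx
        · exact g.2.1 x fun h' => hT h'.2
      · rfl,
    g.2.2.subset fun x hx hc => hx (by simp [hc])⟩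
  map_zero' := by ext x; simp
  map_add' g g' := by
    refine Subtype.ext (funext fun x => ?_)
    show (if x ∈ V then (g.1 x + g'.1 x) else 0) = (if x ∈ V then g.1 x else 0) + (if x ∈ V then g'.1 x else 0)
    split_ifs <;> simp

theorem spreadRes_apply (U V : Opens X) (g : spreadSub T A U) (x : X) :
    (spreadRes T A U V g).1 x = if x ∈ V then g.1 x else 0 := rfl

theorem spreadRes_apply_mem (U V : Opens X) (g : spreadSub T A U) {x : X} (hx : x ∈ V) :
    (spreadRes T A U V g).1 x = g.1 x := if_pos hx

/-- The presheaf of finitely supported families. -/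
def spreadPre : TopCat.Presheaf AddCommGrpCat.{u} X where
  obj U := AddCommGrpCat.of (spreadSub T A U.unop)
  map {U V} _ := AddCommGrpCat.ofHom (spreadRes T A U.unop V.unop)
  map_id U := by
    ext g x
    show (if x ∈ U.unop then (g : spreadSub T A U.unop).1 x else 0) = (g : spreadSub T A U.unop).1 x
    split_ifs with h
    · rfl
    · exact ((g : spreadSub T A U.unop).2.1 x fun h' => h h'.1).symm
  map_comp {U V W} i j := by
    ext g x
    show (if x ∈ W.unop then (g : spreadSub T A U.unop).1 x else 0) =
      if x ∈ W.unop then (if x ∈ V.unop then (g : spreadSub T A U.unop).1 x else 0) else 0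
    split_ifs with h h'
    · rfl
    · exact absurd (j.unop.le h) h'
    · rfl

theorem map_apply {U V : (Opens X)ᵒᵖ} (i : U ⟶ V) (g : (spreadPre T A).obj U) {x : X} (hx : x ∈ V.unop) :
    (show spreadSub T A V.unop from (spreadPre T A).map i g).1 x = (show spreadSub T A U.unop from g).1 x :=
  if_pos hx

theorem isSheaf_spreadPre [NoetherianSpace X] : TopCat.Presheaf.IsSheaf (spreadPre T A) := by
  rw [TopCat.Presheaf.isSheaf_iff_isSheafUniqueGluing]
  intro ι U sf hsf
  have hag : ∀ (i j : ι) (x : X), x ∈ U i → x ∈ U j →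
      (show spreadSub T A (U i) from sf i).1 x = (show spreadSub T A (U j) from sf j).1 x := by
    intro i j x hi hj
    have h := congrArg (fun g : (spreadPre T A).obj (op (U i ⊓ U j)) =>
      (show spreadSub T A (U i ⊓ U j) from g).1 x) (hsf i j)
    simpa only [map_apply T A _ _ (show x ∈ U i ⊓ U j from ⟨hi, hj⟩)] using h
  let g : ∀ x : X, A x := fun x =>
    if h : ∃ i, x ∈ U i then (show spreadSub T A (U h.choose) from sf h.choose).1 x else 0
  have hg : ∀ (i : ι) (x : X), x ∈ U i → g x = (show spreadSub T A (U i) from sf i).1 x := fun i x hx => by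
    have h : ∃ j, x ∈ U j := ⟨i, hx⟩
    simp only [g, dif_pos h]
    exact hag _ _ x h.choose_spec hx
  obtain ⟨t, ht⟩ := (NoetherianSpace.isCompact ((iSup U : Opens X) : Set X)).elim_finite_subcover
    (fun i => (U i : Set X)) (fun i => (U i).2) (fun x hx => by
      obtain ⟨i, hi⟩ := Opens.mem_iSup.1 hx
      exact Set.mem_iUnion.2 ⟨i, hi⟩)
  have hmem : g ∈ spreadSub T A (iSup U) := by
    refine ⟨fun x hx => ?_, (t.finite_toSet.biUnion fun i _ => (show spreadSub T A (U i) from sf i).2.2).subset
      fun x hx => ?_⟩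
    · by_cases h : ∃ i, x ∈ U i
      · obtain ⟨i, hi⟩ := h
        rw [hg i x hi]
        exact (show spreadSub T A (U i) from sf i).2.1 x fun h' => hx ⟨Opens.mem_iSup.2 ⟨i, hi⟩, h'.2⟩
      · simp only [g, dif_neg h]
    · have h : ∃ i, x ∈ U i := by
        by_contra hc
        exact hx (by simp only [g, dif_neg hc])
      obtain ⟨i, hit, hxi⟩ := Set.mem_iUnion₂.1 (ht (Opens.mem_iSup.2 h))
      refine Set.mem_iUnion₂.2 ⟨i, hit, ?_⟩
      rw [Set.mem_setOf_eq, ← hg i x hxi]
      exact hx
  refine ⟨(⟨g, hmem⟩ : spreadSub T A (iSup U)), fun i => ?_, fun g' hg' => ?_⟩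
  · refine Subtype.ext (funext fun x => ?_)
    show (if x ∈ U i then g x else 0) = _
    split_ifs with h
    · exact hg i x h
    · exact ((show spreadSub T A (U i) from sf i).2.1 x fun h' => h h'.1).symm
  · refine Subtype.ext (funext fun x => ?_)
    show (show spreadSub T A (iSup U) from g').1 x = g x
    by_cases h : ∃ i, x ∈ U i
    · obtain ⟨i, hi⟩ := h
      have h1 := congrArg (fun s : (spreadPre T A).obj (op (U i)) => (show spreadSub T A (U i) from s).1 x) (hg' i)
      simp only [map_apply T A _ _ (show x ∈ U i from hi)] at h1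
      rw [hg i x hi, ← h1]
    · simp only [g, dif_neg h]
      exact (show spreadSub T A (iSup U) from g').2.1 x fun h' => h (Opens.mem_iSup.1 h'.1)

/-- The sheaf of finitely supported families. -/
def spread [NoetherianSpace X] : CohTop.Ab X := ⟨spreadPre T A, isSheaf_spreadPre T A⟩

theorem isFlasque_spread [NoetherianSpace X] : TopCat.Sheaf.IsFlasque (spread T A) := by
  refine ⟨fun {U V} i => (AddCommGrpCat.epi_iff_surjective _).2 fun s => ?_⟩
  let s' : spreadSub T A V.unop := s
  refine ⟨(⟨s'.1, fun x hx => s'.2.1 x fun h => hx ⟨i.unop.le h.1, h.2⟩, s'.2.2⟩ : spreadSub T A U.unop), ?_⟩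
  refine Subtype.ext (funext fun x => ?_)
  show (if x ∈ V.unop then s'.1 x else 0) = s'.1 x
  split_ifs with h
  · rfl
  · exact (s'.2.1 x fun h' => h h'.1).symm

end Groth.L22.GV
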